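import Groth.Agent.NonAbH1.K974.Closure
import Groth.Agent.NonAbH1.K551.H1Cl
import Groth.Agent.S14276
import Groth.Agent.AlgGrp.K399.Act

/-!
# The closure of an orbit as a torsor
-/

set_option autoImplicit false
universe u

open CategoryTheory CategoryTheory.Limits MonoidalCategory CartesianMonoidalCategory MonObj GrpObj AlgebraicGeometry
open Groth.Agent.Books.BorelOrb K551.Tors K974.Closure

namespace K974.ClosTors

variable {S : Scheme.{u}} {G P X Ko : Over S} [GrpObj G] [GrpObj P] (i : P ⟶ G) [IsMonHom i]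
  {a : AlgGrp.Action G X} (ha : NonAbH1.IsPseudoTorsorSch a) (x₀ : Ko ⟶ X)
variable [Mono Ko.hom] [Flat Ko.hom] [QuasiCompact Ko.hom] [IsSchemeTheoreticallyDominant Ko.hom]
variable [IsClosedImmersion i.left] [QuasiCompact (orb i x₀ a).left] [Flat P.hom] [Flat (cl i x₀ a).hom]

omit [Flat P.hom] in
include ha in
/-- `T ⟶ X` factors through the closure if it does so over the generic fibre, for `T` flat. -/
theorem exists_factor_gen {T : Over S} [Flat T.hom] (t : T ⟶ X)
    (p : T ⊗ Ko ⟶ P) (h : sm a (p ≫ i) (snd T Ko ≫ x₀) = fst T Ko ≫ t) :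
    ∃ v : T ⟶ cl i x₀ a, v ≫ imι (orb i x₀ a) = t := by
  have := dom_fst (T := T) (C := Ko)
  refine exists_factor (imι (orb i x₀ a)) (fst T Ko) t (lift p (snd T Ko) ≫ toIm (orb i x₀ a)) ?_
  rw [lift_toIm, h]

include ha in
/-- the action morphism -/
theorem exists_act : ∃ v : P ⊗ cl i x₀ a ⟶ cl i x₀ a, v ≫ imι (orb i x₀ a) =
    sm a (fst P (cl i x₀ a) ≫ i) (snd P (cl i x₀ a) ≫ imι (orb i x₀ a)) := by
  obtain ⟨p₁, hp₁⟩ := exists_gen i x₀ ha (fst (P ⊗ cl i x₀ a) Ko ≫ snd P (cl i x₀ a)) (snd (P ⊗ cl i x₀ a) Ko)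
  refine exists_factor_gen i ha x₀ _ ((fst (P ⊗ cl i x₀ a) Ko ≫ fst P (cl i x₀ a)) * p₁) ?_
  rw [comp_sm, MonObj.mul_comp, mul_sm, hp₁]
  simp only [Category.assoc]

instance mono_im : Mono (imι (orb i x₀ a)) := by
  have : Mono ((Over.forget S).map (imι (orb i x₀ a))) := inferInstanceAs (Mono (imι (orb i x₀ a)).left)
  exact (Over.forget S).mono_of_mono_map this

theorem lift_act {T : Over S} (p : T ⟶ P) (x : T ⟶ cl i x₀ a) :
    (lift p x ≫ (exists_act i ha x₀).choose) ≫ imι (orb i x₀ a) = sm a (p ≫ i) (x ≫ imι (orb i x₀ a)) := by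
  rw [Category.assoc, (exists_act i ha x₀).choose_spec, comp_sm]
  simp

/-- the action of `P` on the closure -/
noncomputable def act (ha : NonAbH1.IsPseudoTorsorSch a) : AlgGrp.Action P (cl i x₀ a) :=
  K399.Act.ofPoints (exists_act i ha x₀).choose
    (fun T x => by
      rw [← cancel_mono (imι (orb i x₀ a)), lift_act i ha, MonObj.one_comp, one_sm])
    (fun T g h x => by
      rw [← cancel_mono (imι (orb i x₀ a)), lift_act i ha, lift_act i ha, lift_act i ha, MonObj.mul_comp, mul_sm])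

theorem sm_act {T : Over S} (p : T ⟶ P) (x : T ⟶ cl i x₀ a) :
    sm (act i x₀ ha) p x ≫ imι (orb i x₀ a) = sm a (p ≫ i) (x ≫ imι (orb i x₀ a)) := lift_act i ha x₀ p x

/-- the closure is a pseudo-torsor -/
theorem isPseudoTorsor : NonAbH1.IsPseudoTorsorSch (act i x₀ ha) := by
  set F := cl i x₀ a with hF
  set j : F ⟶ X := imι (orb i x₀ a) with hj
  change IsIso (lift (act i x₀ ha).act (snd P F))
  set α : P ⊗ F ⟶ F ⊗ F := lift (act i x₀ ha).act (snd P F) with hα
  have hact : (act i x₀ ha).act ≫ j = sm a (fst P F ≫ i) (snd P F ≫ j) := (exists_act i ha x₀).choose_spec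
  -- closed immersion
  have hcl : IsClosedImmersion α.left := by
    have e : α ≫ (j ⊗ₘ j) = (i ⊗ₘ j) ≫ lift a.act (snd G X) := by
      apply CartesianMonoidalCategory.hom_ext
      · rw [Category.assoc, tensorHom_fst, hα, lift_fst_assoc, hact, Category.assoc, lift_fst, sm]
        simp
      · simp [hα]
    have h1 : IsIso (lift a.act (snd G X)) := ha
    have h2 := closedImmersion_tensor i j
    have h3 := closedImmersion_of_isIso (lift a.act (snd G X))
    have h4 : IsClosedImmersion (α ≫ (j ⊗ₘ j)).left := by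
      rw [e]; exact closedImmersion_comp _ _
    have h5 := closedImmersion_tensor j j
    exact closedImmersion_left_of_comp α (j ⊗ₘ j)
  have := dom_fst (T := F ⊗ F) (C := Ko)
  obtain ⟨p₁, hp₁⟩ := exists_gen i x₀ ha (fst (F ⊗ F) Ko ≫ fst F F) (snd (F ⊗ F) Ko)
  obtain ⟨p₂, hp₂⟩ := exists_gen i x₀ ha (fst (F ⊗ F) Ko ≫ snd F F) (snd (F ⊗ F) Ko)
  refine isIso_of_factor α (fst (F ⊗ F) Ko) (lift (p₁ * p₂⁻¹) (fst (F ⊗ F) Ko ≫ snd F F)) ?_
  apply CartesianMonoidalCategory.hom_ext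
  · rw [Category.assoc, hα, lift_fst, ← cancel_mono j]
    have h6 := sm_act i ha x₀ (p₁ * p₂⁻¹) (fst (F ⊗ F) Ko ≫ snd F F)
    rw [← hj, sm] at h6
    rw [Category.assoc] at h6 ⊢
    rw [h6, ← hp₂, ← mul_sm, ← MonObj.mul_comp, inv_mul_cancel_right, hp₁]
  · simp [hα]

end K974.ClosTors
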