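import Groth.Agent.NonAbH1.K974.ValDom
import Groth.Agent.NonAbH1.K551.Tors
import Mathlib.AlgebraicGeometry.Morphisms.SchemeTheoreticallyDominant

/-!
# Closures of orbits of generic points, over a valuation ring

Over the spectrum of a valuation ring `V` with fraction field `K`: `P ⊆ G` a flat closed subgroup, `X` a `G`-pseudo-torsor,
`x₀` a `K`-point of `X`.  The schematic closure `F` in `X` of the orbit `P_K x₀` is flat, `P`-stable and a
`P`-pseudo-torsor.
-/

set_option autoImplicit false
universe u

open CategoryTheory CategoryTheory.Limits MonoidalCategory CartesianMonoidalCategory MonObj GrpObj AlgebraicGeometry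
open Groth.Agent.Books.BorelOrb K551.Tors

namespace K974.Closure

/-- a closed immersion with trivial kernel is an isomorphism -/
theorem isIso_of_dom {Y Z : Scheme.{u}} (i : Z ⟶ Y) [IsClosedImmersion i] (h : i.ker = ⊥) : IsIso i := by
  let l : Y ⟶ Z := IsClosedImmersion.lift i (𝟙 Y) (by rw [h]; exact bot_le)
  have hl : l ≫ i = 𝟙 Y := IsClosedImmersion.lift_fac _ _ _
  refine ⟨l, ?_, hl⟩
  rw [← cancel_mono i, Category.assoc, hl, Category.comp_id, Category.id_comp]

theorem dom_of_comp_mono_flat {A B C : Scheme.{u}} (f : A ⟶ B) (g : B ⟶ C) [Mono g] [Flat g] [QuasiCompact (f ≫ g)]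
    [IsSchemeTheoreticallyDominant (f ≫ g)] : IsSchemeTheoreticallyDominant f := by
  have h : IsPullback (𝟙 A) f (f ≫ g) g := by
    refine IsPullback.of_isLimit (PullbackCone.IsLimit.mk (by simp) (fun s => s.fst) ?_ ?_ ?_)
    · intro s; simp
    · intro s
      rw [← cancel_mono g, Category.assoc, s.condition]
    · intro s m h1 _; simpa using h1
  exact IsSchemeTheoreticallyDominant.of_isPullback h

section Over

variable {S : Scheme.{u}}

/-- scheme theoretic image in `Over S` -/
noncomputable def im {T X : Over S} (φ : T ⟶ X) : Over S := Over.mk (φ.left.imageι ≫ X.hom)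

noncomputable def imι {T X : Over S} (φ : T ⟶ X) : im φ ⟶ X := Over.homMk φ.left.imageι rfl

noncomputable def toIm {T X : Over S} (φ : T ⟶ X) : T ⟶ im φ := Over.homMk φ.left.toImage (by
  change φ.left.toImage ≫ φ.left.imageι ≫ X.hom = _
  rw [Scheme.Hom.toImage_imageι_assoc, Over.w])

lemma toIm_imι {T X : Over S} (φ : T ⟶ X) : toIm φ ≫ imι φ = φ := by
  ext1
  exact Scheme.Hom.toImage_imageι _

instance {T X : Over S} (φ : T ⟶ X) : IsClosedImmersion (imι φ).left :=
  inferInstanceAs (IsClosedImmersion φ.left.imageι)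

theorem ker_toImage {X Y : Scheme.{u}} (f : X ⟶ Y) [QuasiCompact f] : f.toImage.ker = ⊥ := by
  refine Scheme.IdealSheafData.ext_of_iSup_eq_top
    (fun U : Y.affineOpens ↦ ⟨f.imageι ⁻¹ᵁ U.1, U.2.preimage _⟩)
    (TopologicalSpace.IsOpenCover.comap (iSup_affineOpens_eq_top Y) _) fun U ↦ ?_
  simp only [Scheme.Hom.ker_apply, Scheme.IdealSheafData.ideal_bot, Pi.bot_apply]
  rw [← RingHom.injective_iff_ker_eq_bot]
  exact f.toImage_app_injective U

lemma dom_toIm {T X : Over S} (φ : T ⟶ X) [QuasiCompact φ.left] : IsSchemeTheoreticallyDominant (toIm φ).left :=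
  ⟨ker_toImage φ.left⟩

/-- A morphism factors through a closed subscheme if its restriction along a schematically dominant morphism does. -/
theorem exists_factor {T' T F X : Over S} (j : F ⟶ X) [IsClosedImmersion j.left] (d : T' ⟶ T)
    [IsSchemeTheoreticallyDominant d.left] (t : T ⟶ X) (u : T' ⟶ F) (h : u ≫ j = d ≫ t) :
    ∃ v : T ⟶ F, v ≫ j = t := by
  have hk : j.left.ker ≤ t.left.ker := by
    have h1 : j.left.ker ≤ (u.left ≫ j.left).ker := Scheme.Hom.le_ker_comp _ _
    have h2 : u.left ≫ j.left = d.left ≫ t.left := congrArg (·.left) h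
    rw [h2, Scheme.Hom.ker_comp, d.left.ker_eq_bot, Scheme.IdealSheafData.map_bot] at h1
    exact h1
  refine ⟨Over.homMk (IsClosedImmersion.lift j.left t.left hk) ?_, ?_⟩
  · rw [← Over.w j, IsClosedImmersion.lift_fac_assoc, Over.w]
  · ext1
    exact IsClosedImmersion.lift_fac _ _ _

/-- A closed immersion through which a schematically dominant morphism factors is an isomorphism. -/
theorem isIso_of_factor {T' T Z : Over S} (j : Z ⟶ T) [IsClosedImmersion j.left] (d : T' ⟶ T)
    [IsSchemeTheoreticallyDominant d.left] (r : T' ⟶ Z) (h : r ≫ j = d) : IsIso j := by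
  have hk : j.left.ker = ⊥ := by
    rw [eq_bot_iff, ← d.left.ker_eq_bot]
    have h1 : j.left.ker ≤ (r.left ≫ j.left).ker := Scheme.Hom.le_ker_comp _ _
    have h2 : r.left ≫ j.left = d.left := congrArg (·.left) h
    rwa [h2] at h1
  have h3 : IsIso ((Over.forget S).map j) := isIso_of_dom j.left hk
  exact isIso_of_reflects_iso j (Over.forget S)

lemma closedImmersion_left_of_comp {A B C : Over S} (f : A ⟶ B) (g : B ⟶ C) [IsClosedImmersion (f ≫ g).left]
    [IsSeparated g.left] : IsClosedImmersion f.left := by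
  have : IsClosedImmersion (f.left ≫ g.left) := inferInstanceAs (IsClosedImmersion (f ≫ g).left)
  exact IsClosedImmersion.of_comp f.left g.left

lemma closedImmersion_comp {A B C : Over S} (f : A ⟶ B) (g : B ⟶ C) [IsClosedImmersion f.left]
    [IsClosedImmersion g.left] : IsClosedImmersion (f ≫ g).left :=
  inferInstanceAs (IsClosedImmersion (f.left ≫ g.left))

lemma closedImmersion_of_isIso {A B : Over S} (f : A ⟶ B) [IsIso f] : IsClosedImmersion f.left := by
  have : IsIso f.left := inferInstanceAs (IsIso ((Over.forget S).map f))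
  infer_instance

lemma stab : MorphismProperty.IsStableUnderComposition (@IsClosedImmersion : MorphismProperty Scheme.{u}) :=
  (inferInstance : MorphismProperty.IsMultiplicative (@IsClosedImmersion : MorphismProperty Scheme.{u})).toIsStableUnderComposition

lemma closedImmersion_whiskerRight {A B : Over S} (f : A ⟶ B) [IsClosedImmersion f.left] (C : Over S) :
    IsClosedImmersion (f ▷ C).left :=
  haveI := stab.{u}
  MorphismProperty.pullbackMap (P := @IsClosedImmersion) (i₁ := f.left) (i₂ := 𝟙 C.left)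
    ‹_› inferInstance (Over.w f).symm (Category.id_comp _).symm

lemma closedImmersion_whiskerLeft {A B : Over S} (f : A ⟶ B) [IsClosedImmersion f.left] (C : Over S) :
    IsClosedImmersion (C ◁ f).left :=
  haveI := stab.{u}
  MorphismProperty.pullbackMap (P := @IsClosedImmersion) (i₁ := 𝟙 C.left) (i₂ := f.left)
    inferInstance ‹_› (Category.id_comp _).symm (Over.w f).symm

lemma closedImmersion_tensor {A B A' B' : Over S} (f : A ⟶ B) (g : A' ⟶ B') [IsClosedImmersion f.left]
    [IsClosedImmersion g.left] : IsClosedImmersion (f ⊗ₘ g).left := by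
  rw [MonoidalCategory.tensorHom_def]
  have := closedImmersion_whiskerRight f A'
  have := closedImmersion_whiskerLeft g B
  exact closedImmersion_comp _ _

lemma dom_fst {T C : Over S} [Flat T.hom] [QuasiCompact C.hom] [IsSchemeTheoreticallyDominant C.hom] :
    IsSchemeTheoreticallyDominant (fst T C).left :=
  inferInstanceAs (IsSchemeTheoreticallyDominant (pullback.fst T.hom C.hom))

instance flat_tensor {T T' : Over S} [Flat T.hom] [Flat T'.hom] : Flat (T ⊗ T').hom := by
  have h : (T ⊗ T').hom = pullback.fst T.hom T'.hom ≫ T.hom := (Over.w (fst T T')).symm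
  rw [h]
  infer_instance

end Over

section Main

variable {S : Scheme.{u}} {G P X Ko : Over S} [GrpObj G] [GrpObj P] (i : P ⟶ G) [IsMonHom i]
  {a : AlgGrp.Action G X} (ha : NonAbH1.IsPseudoTorsorSch a) (x₀ : Ko ⟶ X)

/-- the orbit map of the point `x₀`. -/
noncomputable def orb (a : AlgGrp.Action G X) : P ⊗ Ko ⟶ X := sm a (fst P Ko ≫ i) (snd P Ko ≫ x₀)

omit [IsMonHom i] [GrpObj P] in
lemma lift_orb {T : Over S} (p : T ⟶ P) (k : T ⟶ Ko) : lift p k ≫ orb i x₀ a = sm a (p ≫ i) (k ≫ x₀) := by
  rw [orb, comp_sm]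
  congr 1
  · rw [← Category.assoc, lift_fst]
  · rw [← Category.assoc, lift_snd]

/-- the closure of the orbit -/
noncomputable abbrev cl (a : AlgGrp.Action G X) : Over S := im (orb i x₀ a)

variable [Mono Ko.hom] [Flat Ko.hom] [QuasiCompact Ko.hom] [IsSchemeTheoreticallyDominant Ko.hom]

omit [Flat Ko.hom] [QuasiCompact Ko.hom] [IsSchemeTheoreticallyDominant Ko.hom] in
lemma toKo_unique {T : Over S} (k k' : T ⟶ Ko) : k = k' := by
  ext1
  rw [← cancel_mono Ko.hom, Over.w, Over.w]

/-- On the generic fibre the orbit map is an isomorphism onto the closure. -/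
theorem isIso_gen [IsClosedImmersion i.left] [QuasiCompact (orb i x₀ a).left] (ha : NonAbH1.IsPseudoTorsorSch a) :
    IsIso (lift (toIm (orb i x₀ a)) (snd P Ko)) := by
  set φ := orb i x₀ a with hφ
  set γ : P ⊗ Ko ⟶ im φ ⊗ Ko := lift (toIm φ) (snd P Ko) with hγ
  have hd : IsSchemeTheoreticallyDominant (toIm φ).left := dom_toIm φ
  have hm : Mono (fst (im φ) Ko).left := by
    have : Mono (pullback.fst (im φ).hom Ko.hom) := inferInstance
    exact this
  have hfl : Flat (fst (im φ) Ko).left := inferInstanceAs (Flat (pullback.fst (im φ).hom Ko.hom))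
  have hγ1 : γ.left ≫ (fst (im φ) Ko).left = (toIm φ).left := by
    rw [← Over.comp_left, hγ, lift_fst]
  have hq0 : QuasiCompact (toIm φ).left := inferInstanceAs (QuasiCompact φ.left.toImage)
  have hq : QuasiCompact (γ.left ≫ (fst (im φ) Ko).left) := by
    rw [hγ1]; exact hq0
  have hd' : IsSchemeTheoreticallyDominant (γ.left ≫ (fst (im φ) Ko).left) := by
    rw [hγ1]; exact hd
  have hdγ : IsSchemeTheoreticallyDominant γ.left := dom_of_comp_mono_flat γ.left (fst (im φ) Ko).left
  -- closed immersion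
  have hcl : IsClosedImmersion γ.left := by
    have e : γ ≫ (imι φ ▷ Ko) = (i ▷ Ko) ≫ lift (sm a (fst G Ko) (snd G Ko ≫ x₀)) (snd G Ko) := by
      apply CartesianMonoidalCategory.hom_ext
      · rw [Category.assoc, whiskerRight_fst, hγ, lift_fst_assoc, toIm_imι, Category.assoc, lift_fst, comp_sm, hφ, orb]
        congr 1
        · simp
        · simp
      · simp [hγ]
    have h1 : IsIso (lift (sm a (fst G Ko) (snd G Ko ≫ x₀)) (snd G Ko)) := by
      refine ⟨lift (dif ha (fst X Ko) (snd X Ko ≫ x₀)) (snd X Ko), ?_, ?_⟩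
      · apply CartesianMonoidalCategory.hom_ext
        · rw [Category.assoc, lift_fst, comp_dif, Category.id_comp]
          apply dif_eq
          rw [lift_fst, lift_snd_assoc]
        · simp
      · apply CartesianMonoidalCategory.hom_ext
        · rw [Category.assoc, lift_fst, comp_sm, Category.id_comp, lift_fst, lift_snd_assoc, sm_dif]
        · simp
    have h2 := closedImmersion_whiskerRight i Ko
    have h3 := closedImmersion_of_isIso (lift (sm a (fst G Ko) (snd G Ko ≫ x₀)) (snd G Ko))
    have h4 : IsClosedImmersion (γ ≫ (imι φ ▷ Ko)).left := by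
      rw [e]; exact closedImmersion_comp _ _
    have h5 := closedImmersion_whiskerRight (imι φ) Ko
    exact closedImmersion_left_of_comp γ (imι φ ▷ Ko)
  exact isIso_of_factor γ γ (𝟙 _) (Category.id_comp _)

/-- Over the generic fibre every point of the closure is in the orbit. -/
theorem exists_gen [IsClosedImmersion i.left] [QuasiCompact (orb i x₀ a).left] (ha : NonAbH1.IsPseudoTorsorSch a)
    {T : Over S} (x : T ⟶ cl i x₀ a) (k : T ⟶ Ko) :
    ∃ p : T ⟶ P, sm a (p ≫ i) (k ≫ x₀) = x ≫ imι (orb i x₀ a) := by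
  have := isIso_gen i x₀ ha
  refine ⟨lift x k ≫ inv (lift (toIm (orb i x₀ a)) (snd P Ko)) ≫ fst P Ko, ?_⟩
  set γ := lift (toIm (orb i x₀ a)) (snd P Ko) with hγ
  have h1 : (lift x k ≫ inv γ) ≫ orb i x₀ a = x ≫ imι (orb i x₀ a) := by
    have h2 : inv γ ≫ toIm (orb i x₀ a) = fst _ _ := by
      rw [IsIso.inv_comp_eq, hγ, lift_fst]
    have h2' : (lift x k ≫ inv γ) ≫ toIm (orb i x₀ a) = x := by
      rw [Category.assoc, h2, lift_fst]
    calc (lift x k ≫ inv γ) ≫ orb i x₀ a = (lift x k ≫ inv γ) ≫ toIm (orb i x₀ a) ≫ imι (orb i x₀ a) := by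
          rw [toIm_imι]
      _ = x ≫ imι (orb i x₀ a) := by rw [← Category.assoc, h2']
  rw [← h1]
  have h3 : lift x k ≫ inv γ = lift (lift x k ≫ inv γ ≫ fst P Ko) k := by
    apply CartesianMonoidalCategory.hom_ext
    · simp
    · exact toKo_unique _ _
  conv_rhs => rw [h3, lift_orb]

/-- the point of the closure given by a point of `P` and a point of `Ko` -/
lemma lift_toIm {T : Over S} (p : T ⟶ P) (k : T ⟶ Ko) :
    (lift p k ≫ toIm (orb i x₀ a)) ≫ imι (orb i x₀ a) = sm a (p ≫ i) (k ≫ x₀) := by
  rw [Category.assoc, toIm_imι, lift_orb]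

end Main

end K974.Closure
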