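import Groth.Agent.NonAbH1.K974.ClosTors
import Groth.Prelude.Def_RedSub
import Groth.Agent.NonAbH1.K551.H1Cl
import Groth.Agent.NonAbH1.K553.FinConn
import Mathlib.AlgebraicGeometry.Morphisms.Preimmersion

/-!
# Reduction of the structure group to a parabolic subgroup over a valuation ring
-/

set_option autoImplicit false
universe u

open CategoryTheory CategoryTheory.Limits MonoidalCategory CartesianMonoidalCategory MonObj GrpObj AlgebraicGeometry
open Groth.Agent.Books.BorelOrb K551.Tors K974.Closure K974.ClosTors K974.ValDom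

namespace K974.ParabVal

theorem ker_spec {A B : Type u} [CommRing A] [CommRing B] (φ : A →+* B) (h : Function.Injective φ) :
    (Spec.map (CommRingCat.ofHom φ)).ker = ⊥ := by
  apply Scheme.IdealSheafData.ext_of_isAffine
  rw [Scheme.Hom.ker_apply, Scheme.IdealSheafData.ideal_bot, Pi.bot_apply]
  rw [← RingHom.injective_iff_ker_eq_bot]
  have h1 : (Spec.map (CommRingCat.ofHom φ)).appTop =
      (Scheme.ΓSpecIso (CommRingCat.of A)).hom ≫ CommRingCat.ofHom φ ≫ (Scheme.ΓSpecIso (CommRingCat.of B)).inv := by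
    rw [← Category.assoc, ← Scheme.ΓSpecIso_naturality, Category.assoc, Iso.hom_inv_id, Category.comp_id]
  change Function.Injective (Spec.map (CommRingCat.ofHom φ)).appTop.hom
  rw [h1]
  intro x y hxy
  simp only [CommRingCat.hom_comp, RingHom.comp_apply] at hxy
  have e1 : Function.Injective (Scheme.ΓSpecIso (CommRingCat.of B)).inv.hom :=
    (Scheme.ΓSpecIso (CommRingCat.of B)).symm.commRingCatIsoToRingEquiv.injective
  have e2 : Function.Injective (Scheme.ΓSpecIso (CommRingCat.of A)).hom.hom :=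
    (Scheme.ΓSpecIso (CommRingCat.of A)).commRingCatIsoToRingEquiv.injective
  exact e2 (h (e1 hxy))

theorem dom_spec {A B : Type u} [CommRing A] [CommRing B] (φ : A →+* B) (h : Function.Injective φ) :
    IsSchemeTheoreticallyDominant (Spec.map (CommRingCat.ofHom φ)) := ⟨ker_spec φ h⟩

theorem surjective_spec {V W : Type u} [CommRing V] [CommRing W] [IsLocalRing V] [IsLocalRing W] (i : V →+* W)
    [IsLocalHom i] (hi : i.Flat) : Surjective (Spec.map (CommRingCat.ofHom i)) := by
  refine ((flat_and_surjective_SpecMap_iff (CommRingCat.ofHom i)).2 ?_).2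
  algebraize [i]
  have : Module.Flat V W := hi
  have : IsLocalHom (algebraMap V W) := ‹IsLocalHom i›
  exact (Module.FaithfullyFlat.of_flat_of_isLocalHom (A := V) (B := W))

variable {V : Type u} [CommRing V] [IsDomain V] [ValuationRing V]

variable (V) in
/-- the generic point as a scheme over `Spec V` -/
noncomputable def Kpt : Over (Spec (CommRingCat.of V)) :=
  Over.mk (Spec.map (CommRingCat.ofHom (algebraMap V (FractionRing V))))

instance : Mono (Kpt V).hom := by
  have := IsPreimmersion.of_isLocalization (S := FractionRing V) (nonZeroDivisors V)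
  exact inferInstanceAs (Mono (Spec.map (CommRingCat.ofHom (algebraMap V (FractionRing V)))))

instance : Flat (Kpt V).hom := by
  have : Flat (Spec.map (CommRingCat.ofHom (algebraMap V (FractionRing V)))) := by
    rw [Flat.SpecMap_iff]
    exact flat_of_injective _ (IsFractionRing.injective V (FractionRing V))
  exact this

instance : QuasiCompact (Kpt V).hom :=
  inferInstanceAs (QuasiCompact (Spec.map (CommRingCat.ofHom (algebraMap V (FractionRing V)))))

instance : IsSchemeTheoreticallyDominant (Kpt V).hom :=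
  dom_spec _ (IsFractionRing.injective V (FractionRing V))

omit [ValuationRing V] [IsDomain V] in
/-- the scheme over `Spec V` given by a ring homomorphism -/
noncomputable def pt {W : Type u} [CommRing W] (φ : V →+* W) : Over (Spec (CommRingCat.of V)) :=
  Over.mk (Spec.map (CommRingCat.ofHom φ))

/-- transition -/
noncomputable def ptMap {W W' : Type u} [CommRing W] [CommRing W'] (φ : V →+* W) (ψ : W →+* W') (χ : V →+* W')
    (h : ψ.comp φ = χ) : pt χ ⟶ pt φ :=
  Over.homMk (Spec.map (CommRingCat.ofHom ψ)) (by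
    subst h
    change Spec.map _ ≫ Spec.map _ = Spec.map _
    rw [← Spec.map_comp]; rfl)

omit [IsDomain V] [ValuationRing V] in
lemma ptMap_sq {A B B' C : Type u} [CommRing A] [CommRing B] [CommRing B'] [CommRing C] {φ : V →+* A}
    {ψ : A →+* B} {ψ' : A →+* B'} {χ : V →+* B} {χ' : V →+* B'} {h : ψ.comp φ = χ} {h' : ψ'.comp φ = χ'}
    {ω : V →+* C} {θ : B →+* C} {θ' : B' →+* C} {k : θ.comp χ = ω} {k' : θ'.comp χ' = ω}
    (e : θ.comp ψ = θ'.comp ψ') : ptMap χ θ ω k ≫ ptMap φ ψ χ h = ptMap χ' θ' ω k' ≫ ptMap φ ψ' χ' h' := by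
  ext1
  change Spec.map _ ≫ Spec.map _ = Spec.map _ ≫ Spec.map _
  rw [← Spec.map_comp, ← Spec.map_comp, ← CommRingCat.ofHom_comp, ← CommRingCat.ofHom_comp, e]

theorem lift_comp {W₁ L : Type u} [CommRing W₁] [IsDomain W₁] [Field L] (χ : W₁ →+* L) (hinj : Function.Injective χ) :
    (IsFractionRing.lift (A := W₁) (K := FractionRing W₁) hinj).comp (algebraMap W₁ (FractionRing W₁)) = χ :=
  RingHom.ext fun x => IsFractionRing.lift_algebraMap hinj x

omit [ValuationRing V] in
/-- A ring homomorphism from `V` to a field, injective, gives a map to the generic point. -/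
theorem exists_toKpt {L : Type u} [Field L] (φ : V →+* L) (hφ : Function.Injective φ) :
    Nonempty (pt φ ⟶ Kpt V) :=
  ⟨ptMap (algebraMap V (FractionRing V)) (IsFractionRing.lift hφ) φ (lift_comp _ _)⟩

omit [IsDomain V] [ValuationRing V] in
/-- valuative criterion -/
theorem exists_ext {Q : Over (Spec (CommRingCat.of V))} [IsProper Q.hom] {W : Type u} [CommRing W] [IsDomain W]
    [ValuationRing W] (φ : V →+* W) (χ : V →+* FractionRing W) (hχ : (algebraMap W (FractionRing W)).comp φ = χ)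
    (c : pt χ ⟶ Q) : ∃ d : pt φ ⟶ Q, ptMap φ (algebraMap W (FractionRing W)) χ hχ ≫ d = c := by
  have hval : ValuativeCriterion Q.hom := by
    have h : IsProper Q.hom := inferInstance
    rw [IsProper.eq_valuativeCriterion] at h
    exact h.1.1.1
  let c₀ : Spec (CommRingCat.of (FractionRing W)) ⟶ Q.left := c.left
  have hw : c₀ ≫ Q.hom = Spec.map (CommRingCat.ofHom (algebraMap W (FractionRing W))) ≫
      Spec.map (CommRingCat.ofHom φ) :=
    (Over.w c).trans (Over.w (ptMap φ (algebraMap W (FractionRing W)) χ hχ)).symm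
  obtain ⟨u⟩ := hval ⟨W, FractionRing W, c₀, Spec.map (CommRingCat.ofHom φ), ⟨hw⟩⟩
  have hl := u.default.fac_left
  have hr := u.default.fac_right
  generalize u.default.l = l at hl hr
  refine ⟨Over.homMk l hr, ?_⟩
  ext1
  exact hl

/-- lifting along a flat surjective morphism after enlarging the valuation ring -/
theorem exists_lift {G Q : Over (Spec (CommRingCat.of V))} (q : G ⟶ Q) [Flat q.left] [Surjective q.left]
    {W₁ : Type u} [CommRing W₁] [IsDomain W₁] [ValuationRing W₁] (φ : V →+* W₁) (d : pt φ ⟶ Q) :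
    ∃ (W : Type u) (_ : CommRing W) (_ : IsDomain W) (_ : ValuationRing W) (ψ : W₁ →+* W)
      (_ : IsLocalHom ψ) (_ : Function.Injective ψ) (h : pt (ψ.comp φ) ⟶ G),
      h ≫ q = ptMap φ ψ (ψ.comp φ) rfl ≫ d := by
  let d₀ : Spec (CommRingCat.of W₁) ⟶ Q.left := d.left
  have hd₀ : d₀ ≫ Q.hom = Spec.map (CommRingCat.ofHom φ) := Over.w d
  have hsT : Surjective (pullback.snd q.left d₀) := inferInstance
  obtain ⟨t₁, ht₁⟩ := (pullback.snd q.left d₀).surjective (IsLocalRing.closedPoint W₁)
  obtain ⟨W, iR, iD, iV, i₂, hi₂, hi₂', t, ht⟩ := exists_valuationRing (R := W₁) (pullback.snd q.left d₀) t₁ ht₁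
  have hw : t ≫ pullback.fst q.left d₀ ≫ q.left = Spec.map (CommRingCat.ofHom i₂) ≫ d₀ := by
    rw [pullback.condition, ← Category.assoc, ht]
  have hGw : (t ≫ pullback.fst q.left d₀) ≫ G.hom = Spec.map (CommRingCat.ofHom (i₂.comp φ)) := by
    have h1 : G.hom = q.left ≫ Q.hom := (Over.w q).symm
    rw [h1, Category.assoc, reassoc_of% hw, hd₀, ← Spec.map_comp]
    rfl
  refine ⟨W, iR, iD, iV, i₂, hi₂, hi₂', Over.homMk (t ≫ pullback.fst q.left d₀) hGw, ?_⟩
  ext1
  exact (Category.assoc _ _ _).trans hw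

lemma surjective_pt {W : Type u} [CommRing W] [IsDomain W] [ValuationRing W] (φ : V →+* W) [IsLocalHom φ]
    (hφ : Function.Injective φ) : Surjective (pt φ).hom :=
  surjective_spec φ (flat_of_injective _ hφ)

lemma dom_ptMap {W W' : Type u} [CommRing W] [CommRing W'] (φ : V →+* W) (ψ : W →+* W') (χ : V →+* W')
    (h : ψ.comp φ = χ) (hψ : Function.Injective ψ) : IsSchemeTheoreticallyDominant (ptMap φ ψ χ h).left :=
  dom_spec ψ hψ

lemma exists_pt_section (X : Over (Spec (CommRingCat.of V))) [Flat X.hom] [Surjective X.hom] :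
    ∃ (W : Type u) (_ : CommRing W) (_ : IsDomain W) (_ : ValuationRing W) (φ : V →+* W)
      (_ : IsLocalHom φ) (_ : Function.Injective φ), Nonempty (pt φ ⟶ X) := by
  obtain ⟨t₀, ht₀⟩ := X.hom.surjective (IsLocalRing.closedPoint V)
  obtain ⟨W, iR, iD, iV, φ, hφ, hφ', s, hs⟩ := exists_valuationRing (R := V) X.hom t₀ ht₀
  exact ⟨W, iR, iD, iV, φ, hφ, hφ', ⟨Over.homMk s hs⟩⟩

/-- points of a quotient -/
lemma exists_of_quotient {S : Scheme.{u}} {G P Q : Over S} [GrpObj G] [GrpObj P] (i : P ⟶ G) (q : G ⟶ Q)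
    (hq : RedSub.IsQuotient i q) {T : Over S} (g g' : T ⟶ G) (h : g ≫ q = g' ≫ q) : ∃ p : T ⟶ P, g' = g * (p ≫ i) := by
  obtain ⟨-, -, -, hq4⟩ := hq
  have hz1 : hq4.lift g g' h ≫ fst G P = g := hq4.lift_fst _ _ _
  have hz2 : hq4.lift g g' h ≫ (G ◁ i) ≫ μ[G] = g' := hq4.lift_snd _ _ _
  refine ⟨hq4.lift g g' h ≫ snd G P, ?_⟩
  generalize hq4.lift g g' h = z at hz1 hz2
  rw [← hz2, ← hz1, Hom.mul_def, ← Category.assoc]
  congr 1
  apply CartesianMonoidalCategory.hom_ext <;> simp

variable {G P X Q : Over (Spec (CommRingCat.of V))} [GrpObj G] [GrpObj P] (i : P ⟶ G) [IsMonHom i]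
  {a : AlgGrp.Action G X} (ha : NonAbH1.IsPseudoTorsorSch a) (x₀ : Kpt V ⟶ X)

include ha in
/-- There is a surjective `Wo ⟶ Spec V` with a map to the closure. -/
theorem exists_dominating [IsClosedImmersion i.left] [QuasiCompact (orb i x₀ a).left] [Flat X.hom] [Surjective X.hom]
    (q : G ⟶ Q) (hq : RedSub.IsQuotient i q) [IsProper Q.hom] :
    ∃ C : Over (Spec (CommRingCat.of V)), Surjective C.hom ∧ Nonempty (C ⟶ cl i x₀ a) := by
  have hq1 : Surjective q.left := hq.1
  have hq2 : Flat q.left := hq.2.1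
  -- the first valuation ring
  obtain ⟨W₁, _, _, _, φ, hφ, hφ', ⟨s⟩⟩ := exists_pt_section X
  obtain ⟨κ⟩ := exists_toKpt ((algebraMap W₁ (FractionRing W₁)).comp φ)
    ((IsFractionRing.injective W₁ (FractionRing W₁)).comp hφ')
  have hg := sm_dif ha (κ ≫ x₀) (ptMap φ (algebraMap W₁ (FractionRing W₁)) _ rfl ≫ s)
  generalize dif ha (κ ≫ x₀) (ptMap φ (algebraMap W₁ (FractionRing W₁)) _ rfl ≫ s) = g at hg
  obtain ⟨d, hd⟩ := exists_ext φ _ rfl (g⁻¹ ≫ q)
  -- the second valuation ring
  obtain ⟨W, _, _, _, ψ, hψ, hψ', h, hh⟩ := exists_lift q φ d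
  have hinj : Function.Injective ((algebraMap W (FractionRing W)).comp ψ) :=
    (IsFractionRing.injective W (FractionRing W)).comp hψ'
  have hcomp : (IsFractionRing.lift hinj).comp ((algebraMap W₁ (FractionRing W₁)).comp φ) =
      (algebraMap W (FractionRing W)).comp (ψ.comp φ) := by
    rw [← RingHom.comp_assoc, lift_comp, RingHom.comp_assoc]
  let m := ptMap ((algebraMap W₁ (FractionRing W₁)).comp φ) (IsFractionRing.lift hinj)
    ((algebraMap W (FractionRing W)).comp (ψ.comp φ)) hcomp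
  let l := ptMap (ψ.comp φ) (algebraMap W (FractionRing W)) ((algebraMap W (FractionRing W)).comp (ψ.comp φ)) rfl
  have hm : m ≫ ptMap φ (algebraMap W₁ (FractionRing W₁)) _ rfl = l ≫ ptMap φ ψ (ψ.comp φ) rfl :=
    ptMap_sq (lift_comp _ _)
  have hdl : IsSchemeTheoreticallyDominant l.left := dom_ptMap _ _ _ _ (IsFractionRing.injective W (FractionRing W))
  generalize ptMap φ ψ (ψ.comp φ) rfl = w at hm hh
  clear_value m l
  -- over the fraction field
  obtain ⟨p₀, hp₀⟩ := exists_of_quotient i q hq (m ≫ g⁻¹) (l ≫ h) (by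
    rw [Category.assoc, Category.assoc, ← hd, hh, ← Category.assoc, hm, Category.assoc])
  have hf₀ : sm a (p₀⁻¹ ≫ i) ((m ≫ κ) ≫ x₀) = l ≫ sm a h⁻¹ (w ≫ s) := by
    have h1 : l ≫ h⁻¹ = (p₀ ≫ i)⁻¹ * (m ≫ g) := by
      rw [comp_inv, hp₀, comp_inv, _root_.mul_inv_rev, _root_.inv_inv]
    rw [comp_sm, h1, ← Category.assoc l, ← hm, mul_sm, GrpObj.inv_comp, Category.assoc m, Category.assoc m, ← comp_sm,
      hg]
  obtain ⟨v, hv⟩ := exists_factor (imι (orb i x₀ a)) l (sm a h⁻¹ (w ≫ s)) (lift p₀⁻¹ (m ≫ κ) ≫ toIm (orb i x₀ a)) (by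
    rw [lift_toIm, hf₀])
  have hloc : IsLocalHom (ψ.comp φ) := RingHom.isLocalHom_comp _ _
  exact ⟨_, surjective_pt (ψ.comp φ) (hψ'.comp hφ'), ⟨v⟩⟩

theorem isAffineHom_fst {X Y Z : Scheme.{u}} (f : X ⟶ Z) (g : Y ⟶ Z) [IsAffineHom g] :
    IsAffineHom (pullback.fst f g) := MorphismProperty.pullback_fst (P := @IsAffineHom) f g ‹_›

variable (V) in
/-- Reduction of the structure group of an étale torsor with a generic section to a closed smooth subgroup with proper
quotient. -/
theorem exists_reduction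
    {G P Q : Over (Spec (CommRingCat.of V))} [GrpObj G] [GrpObj P] (iP : P ⟶ G) [IsMonHom iP]
    [IsClosedImmersion iP.left] [IsAffineHom G.hom] [Smooth G.hom] [Smooth P.hom]
    (q : G ⟶ Q) (hq : RedSub.IsQuotient iP q) [IsProper Q.hom]
    (E : NonAbH1.TorsorSch G Scheme.etalePrecoverage)
    (hE : NonAbH1.HasSectionOver E.X (Spec.map (CommRingCat.ofHom (algebraMap V (FractionRing V))))) :
    ∃ F : NonAbH1.TorsorSch P Scheme.etalePrecoverage,
      NonAbH1.HasSectionOver F.X (Spec.map (CommRingCat.ofHom (algebraMap V (FractionRing V)))) ∧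
        Nonempty (F.X ⟶ E.X) := by
  obtain ⟨x, hx⟩ := hE
  let x₀ : Kpt V ⟶ E.X := Over.homMk x hx
  have hT : NonAbH1.IsTorsorFor Scheme.fppfPrecoverage E.act :=
    ⟨E.isTorsor.1, K553.FinConn.isLocallyTrivialFor_fppf_of_etale E.isTorsor.2⟩
  have h1 : Flat E.X.hom := flat_of_torsor hT
  have h2 : Surjective E.X.hom := surjective_of_torsor hT
  have h3 : IsAffineHom E.X.hom := isAffineHom_of_torsor hT
  have hPa : IsAffineHom P.hom := by
    rw [← Over.w iP]; infer_instance
  have hPK : IsAffineHom (P ⊗ Kpt V).hom := by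
    have : IsAffineHom (Kpt V).hom := inferInstanceAs (IsAffineHom (Spec.map _))
    have h : (P ⊗ Kpt V).hom = pullback.fst P.hom (Kpt V).hom ≫ P.hom := (Over.w (fst P (Kpt V))).symm
    have : IsAffineHom (pullback.fst P.hom (Kpt V).hom) := isAffineHom_fst _ _
    rw [h]; infer_instance
  have h4 : QuasiCompact (orb iP x₀ E.act).left := by
    have h5 : QuasiCompact ((orb iP x₀ E.act).left ≫ E.X.hom) := by
      rw [Over.w]; infer_instance
    exact QuasiCompact.of_comp _ E.X.hom
  have h6 : Flat (cl iP x₀ E.act).hom := by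
    have h7 : Flat ((toIm (orb iP x₀ E.act)).left ≫ (cl iP x₀ E.act).hom) := by
      rw [Over.w]; infer_instance
    have h8 : QuasiCompact (toIm (orb iP x₀ E.act)).left :=
      inferInstanceAs (QuasiCompact (orb iP x₀ E.act).left.toImage)
    exact flat_of_ker_eq_bot_spec V (toIm (orb iP x₀ E.act)).left (cl iP x₀ E.act).hom
      (K974.Closure.ker_toImage _)
  have h9 := isPseudoTorsor iP E.isTorsor.1 x₀
  obtain ⟨C, hC, ⟨v⟩⟩ := exists_dominating iP E.isTorsor.1 x₀ q hq
  have h10 : Surjective (cl iP x₀ E.act).hom := by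
    have h11 : Surjective (v.left ≫ (cl iP x₀ E.act).hom) := by rw [Over.w]; exact hC
    exact Surjective.of_comp v.left _
  have h12 : QuasiCompact (cl iP x₀ E.act).hom := by
    have h13 : (cl iP x₀ E.act).hom = (imι (orb iP x₀ E.act)).left ≫ E.X.hom := (Over.w _).symm
    rw [h13]; infer_instance
  have h14 : LocallyOfFinitePresentation (cl iP x₀ E.act).hom := by
    have h15 : IsIso (CartesianMonoidalCategory.lift (act iP x₀ E.isTorsor.1).act (snd P (cl iP x₀ E.act))) := h9
    have h16 : IsIso (CartesianMonoidalCategory.lift (act iP x₀ E.isTorsor.1).act (snd P (cl iP x₀ E.act))).left :=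
      inferInstanceAs (IsIso ((Over.forget _).map
        (CartesianMonoidalCategory.lift (act iP x₀ E.isTorsor.1).act (snd P (cl iP x₀ E.act)))))
    have h17 : (CartesianMonoidalCategory.lift (act iP x₀ E.isTorsor.1).act (snd P (cl iP x₀ E.act))).left ≫
        (snd (cl iP x₀ E.act) (cl iP x₀ E.act)).left = (snd P (cl iP x₀ E.act)).left := by
      rw [← Over.comp_left, lift_snd]
    have h18 : LocallyOfFinitePresentation (snd P (cl iP x₀ E.act)).left :=
      inferInstanceAs (LocallyOfFinitePresentation (pullback.snd P.hom (cl iP x₀ E.act).hom))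
    have h19 : LocallyOfFinitePresentation (pullback.snd (cl iP x₀ E.act).hom (cl iP x₀ E.act).hom) := by
      have h21 := (IsIso.eq_inv_comp _).2 h17
      change LocallyOfFinitePresentation (snd (cl iP x₀ E.act) (cl iP x₀ E.act)).left
      rw [h21]
      infer_instance
    exact MorphismProperty.of_pullback_snd_of_descendsAlong (P := @LocallyOfFinitePresentation)
      (Q := @Surjective ⊓ @Flat ⊓ @QuasiCompact) (f := (cl iP x₀ E.act).hom) (g := (cl iP x₀ E.act).hom)
      ⟨⟨h10, h6⟩, h12⟩ h19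
  have h20 : NonAbH1.IsTorsorFor Scheme.fppfPrecoverage (act iP x₀ E.isTorsor.1) :=
    isTorsorFor_of_redSub ⟨h10, h6, h14, h9⟩
  refine ⟨⟨cl iP x₀ E.act, act iP x₀ E.isTorsor.1, h9, Groth.Agent.S14276.result P _ _ h20⟩, ?_,
    ⟨imι (orb iP x₀ E.act)⟩⟩
  exact ⟨(CartesianMonoidalCategory.lift (1 : Kpt V ⟶ P) (𝟙 _) ≫ toIm (orb iP x₀ E.act)).left, Over.w _⟩

end K974.ParabVal
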