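import Mathlib.AlgebraicGeometry.Morphisms.Flat
import Mathlib.AlgebraicGeometry.Morphisms.FlatDescent
import Mathlib.AlgebraicGeometry.IdealSheaf.Subscheme
import Mathlib.AlgebraicGeometry.ValuativeCriterion
import Mathlib.RingTheory.Flat.TorsionFree
import Mathlib.RingTheory.Valuation.LocalSubring
import Mathlib.RingTheory.Ideal.MinimalPrime.Localization

/-!
# Valuation rings: flatness of scheme theoretic images, dominating valuation rings with points

* `flat_of_ker_eq_bot`: over `Spec V`, `V` a valuation ring, the target of a schematically dominant quasi-compact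
  morphism from a flat scheme is flat.
* `exists_valuationRing`: a flat scheme over the spectrum of a local domain `R` with a point over the closed point has
  a point with values in a valuation ring dominating `R`.
-/

set_option autoImplicit false
universe u

open CategoryTheory CategoryTheory.Limits AlgebraicGeometry Opposite

namespace K974.ValDom

theorem flat_of_ker_eq_bot {X Y Z : Scheme.{u}} (f : X ⟶ Y) (g : Y ⟶ Z) [IsAffine Z]
    [IsDomain Γ(Z, ⊤)] [ValuationRing Γ(Z, ⊤)]
    [QuasiCompact f] (hker : f.ker = ⊥) [Flat (f ≫ g)] : Flat g := by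
  rw [HasRingHomProperty.iff_of_iSup_eq_top (P := @Flat) (fun U : Y.affineOpens => U)
    (iSup_affineOpens_eq_top Y)]
  intro U
  -- the section ring is torsion free
  algebraize [(g.appLE ⊤ U.1 le_top).hom]
  change Module.Flat Γ(Z, ⊤) Γ(Y, U.1)
  rw [Module.Flat.flat_iff_torsion_eq_bot_of_isBezout, eq_bot_iff]
  intro y hy
  obtain ⟨⟨r, hr⟩, hry⟩ := hy
  have hry' : (g.appLE ⊤ U.1 le_top).hom r * y = 0 := hry
  have hinj : Function.Injective (f.app U.1).hom := by
    rw [RingHom.injective_iff_ker_eq_bot, ← Scheme.Hom.ker_apply, hker]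
    rfl
  rw [Submodule.mem_bot]
  apply hinj
  rw [map_zero]
  -- local check
  refine X.IsSheaf.section_ext ?_
  intro x hx
  obtain ⟨W, hW, hxW, hWU'⟩ := exists_isAffineOpen_mem_and_subset hx
  have hWU : W ≤ f ⁻¹ᵁ U.1 := hWU'
  refine ⟨W, hWU, hxW, ?_⟩
  have hflat : ((f ≫ g).appLE ⊤ W le_top).hom.Flat :=
    HasRingHomProperty.appLE (P := @Flat) (f ≫ g) inferInstance ⟨⊤, isAffineOpen_top Z⟩ ⟨W, hW⟩ le_top
  have hcomp : g.appLE ⊤ U.1 le_top ≫ f.app U.1 ≫ X.presheaf.map (homOfLE hWU).op =
      (f ≫ g).appLE ⊤ W le_top := by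
    rw [← Scheme.Hom.appLE_comp_appLE f g ⊤ U.1 W le_top hWU]
    rfl
  algebraize [((f ≫ g).appLE ⊤ W le_top).hom]
  have hfl : Module.Flat Γ(Z, ⊤) Γ(X, W) := hflat
  have hreg := Module.Flat.isSMulRegular_of_nonZeroDivisors (M := Γ(X, W)) hr
  rw [map_zero]
  apply hreg
  change r • _ = r • (0 : Γ(X, W))
  rw [smul_zero]
  have h1 := congrArg (f.app U.1 ≫ X.presheaf.map (homOfLE hWU).op).hom hry'
  rw [map_mul, map_zero] at h1
  have h2 : (f.app U.1 ≫ X.presheaf.map (homOfLE hWU).op).hom ((g.appLE ⊤ U.1 le_top).hom r) =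
      ((f ≫ g).appLE ⊤ W le_top).hom r := by
    rw [← hcomp]
    rfl
  rw [h2] at h1
  exact h1

theorem valuationRing_of_equiv {R R' : Type u} [CommRing R] [IsDomain R] [ValuationRing R] [CommRing R'] [IsDomain R']
    (e : R ≃+* R') : ValuationRing R' := by
  rw [ValuationRing.iff_dvd_total]
  refine ⟨fun a b => ?_⟩
  obtain h | h := (ValuationRing.dvd_total (e.symm a) (e.symm b))
  · left
    have := map_dvd e h
    simpa using this
  · right
    have := map_dvd e h
    simpa using this

theorem flat_of_ker_eq_bot_spec {X Y : Scheme.{u}} (V : Type u) [CommRing V] [IsDomain V] [ValuationRing V]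
    (f : X ⟶ Y) (g : Y ⟶ Spec (CommRingCat.of V)) [QuasiCompact f] (hker : f.ker = ⊥) [Flat (f ≫ g)] : Flat g := by
  let e : Γ(Spec (CommRingCat.of V), ⊤) ≃+* V := (Scheme.ΓSpecIso (CommRingCat.of V)).commRingCatIsoToRingEquiv
  have : IsDomain Γ(Spec (CommRingCat.of V), ⊤) := e.toMulEquiv.isDomain V
  have : ValuationRing Γ(Spec (CommRingCat.of V), ⊤) := valuationRing_of_equiv e.symm
  exact flat_of_ker_eq_bot f g hker

/-- An injective map from a valuation ring to a domain is flat. -/
theorem flat_of_injective {V W : Type u} [CommRing V] [IsDomain V] [ValuationRing V] [CommRing W] [IsDomain W]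
    (i : V →+* W) (hi : Function.Injective i) : i.Flat := by
  algebraize [i]
  change Module.Flat V W
  rw [Module.Flat.flat_iff_torsion_eq_bot_of_isBezout, eq_bot_iff]
  rintro y ⟨⟨r, hr⟩, hry⟩
  have hry' : i r * y = 0 := hry
  rcases mul_eq_zero.1 hry' with h | h
  · exact absurd (hi (h.trans (map_zero i).symm)) (nonZeroDivisors.ne_zero hr)
  · exact h

theorem flat_fromSpecStalk (Y : Scheme.{u}) (y : Y) : Flat (Y.fromSpecStalk y) := by
  obtain ⟨_, ⟨U, hU, rfl⟩, hyU, -⟩ :=
    Y.isBasis_affineOpens.exists_subset_of_mem_open (Set.mem_univ y) isOpen_univ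
  rw [← hU.fromSpecStalk_eq_fromSpecStalk hyU]
  dsimp only [IsAffineOpen.fromSpecStalk]
  have : Flat (Spec.map (Y.presheaf.germ U y hyU)) := by
    rw [Flat.SpecMap_iff]
    let : Algebra Γ(Y, U) (Y.presheaf.stalk y) := (Y.presheaf.germ U y hyU).hom.toAlgebra
    have := hU.isLocalization_stalk ⟨y, hyU⟩
    exact IsLocalization.flat (Y.presheaf.stalk y) (hU.primeIdealOf ⟨y, hyU⟩).asIdeal.primeCompl
  have : IsOpenImmersion hU.fromSpec := hU.isOpenImmersion_fromSpec
  have h2 : Flat hU.fromSpec := inferInstance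
  exact Flat.comp _ _

/-- A flat scheme over the spectrum of a local domain `R` with a point over the closed point has a point with values
in a valuation ring dominating `R`. -/
theorem exists_valuationRing {R : Type u} [CommRing R] [IsDomain R] [IsLocalRing R] {T : Scheme.{u}}
    (f : T ⟶ Spec (CommRingCat.of R)) [Flat f] (t₀ : T) (ht₀ : f t₀ = IsLocalRing.closedPoint R) :
    ∃ (W : Type u) (_ : CommRing W) (_ : IsDomain W) (_ : ValuationRing W) (i : R →+* W),
      IsLocalHom i ∧ Function.Injective i ∧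
      ∃ t : Spec (CommRingCat.of W) ⟶ T, t ≫ f = Spec.map (CommRingCat.ofHom i) := by
  obtain ⟨φ, hφ⟩ := Spec.map_surjective (T.fromSpecStalk t₀ ≫ f)
  have hst := flat_fromSpecStalk T t₀
  have hflat : φ.hom.Flat := by
    have h1 : Flat (Spec.map φ) := by rw [hφ]; exact Flat.comp _ _
    exact (HasRingHomProperty.Spec_iff (P := @Flat)).1 h1
  have hloc : IsLocalHom φ.hom := by
    refine (IsLocalRing.isLocalHom_iff_comap_closedPoint φ.hom).2 ?_
    have h1 : (Spec.map φ) (IsLocalRing.closedPoint (T.presheaf.stalk t₀)) = IsLocalRing.closedPoint R := by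
      have h2 : (T.fromSpecStalk t₀ ≫ f) (IsLocalRing.closedPoint (T.presheaf.stalk t₀)) = f t₀ := by
        exact (Scheme.Hom.comp_apply (T.fromSpecStalk t₀) f _).trans (congrArg f Scheme.fromSpecStalk_closedPoint)
      exact ((congrArg (fun g : Spec (T.presheaf.stalk t₀) ⟶ Spec (CommRingCat.of R) =>
        g (IsLocalRing.closedPoint (T.presheaf.stalk t₀))) hφ).trans h2).trans ht₀
    exact h1
  obtain ⟨⟨q, hq⟩⟩ : Nonempty (⊥ : Ideal (T.presheaf.stalk t₀)).minimalPrimes :=
    Ideal.nonempty_minimalPrimes bot_ne_top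
  have hqp : q.IsPrime := hq.1.1
  let K := FractionRing (T.presheaf.stalk t₀ ⧸ q)
  let ψ : T.presheaf.stalk t₀ →+* K := (algebraMap (T.presheaf.stalk t₀ ⧸ q) K).comp (Ideal.Quotient.mk q)
  obtain ⟨A, hA, hA'⟩ := IsLocalRing.exists_factor_valuationRing ψ
  let χ : T.presheaf.stalk t₀ →+* A := ψ.codRestrict A.toSubring hA
  refine ⟨A, inferInstance, inferInstance, inferInstance, χ.comp φ.hom, ?_, ?_, ?_⟩
  · exact RingHom.isLocalHom_comp _ _
  · rw [injective_iff_map_eq_zero]
    intro r hr
    by_contra hr0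
    have h1 : ψ (φ.hom r) = 0 := congrArg Subtype.val hr
    have h2 : φ.hom r ∈ q := by
      have h3 : Ideal.Quotient.mk q (φ.hom r) = 0 :=
        (injective_iff_map_eq_zero _).1 (IsFractionRing.injective (T.presheaf.stalk t₀ ⧸ q) K) _ h1
      exact Ideal.Quotient.eq_zero_iff_mem.1 h3
    refine notMem_nonZeroDivisors_of_mem_mem_minimalPrimes h2 hq ?_
    algebraize [φ.hom]
    have hfl : Module.Flat R (T.presheaf.stalk t₀) := hflat
    have hreg := Module.Flat.isSMulRegular_of_nonZeroDivisors (M := T.presheaf.stalk t₀)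
      (mem_nonZeroDivisors_of_ne_zero hr0)
    rw [mem_nonZeroDivisors_iff]
    have h3 : ∀ x, φ.hom r * x = 0 → x = 0 := fun x hx => hreg (by
      change r • x = r • (0 : T.presheaf.stalk t₀)
      rw [smul_zero]; exact hx)
    exact ⟨h3, fun x hx => h3 x (by rw [mul_comm]; exact hx)⟩
  · refine ⟨Spec.map (CommRingCat.ofHom χ) ≫ T.fromSpecStalk t₀, ?_⟩
    rw [Category.assoc, ← hφ, ← Spec.map_comp]
    rfl

end K974.ValDom
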